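import Groth.Agent.DevProj.UKill
import Groth.Agent.ProjLocalFree.Smooth
import Groth.Agent.DevFree.Main
import Groth.Agent.S1205

/-! Flat modules with a complete dévissage are projective after inverting an element of the base. -/

set_option autoImplicit false
set_option backward.isDefEq.respectTransparency false
set_option backward.isDefEq.respectTransparency.types false
attribute [-instance] CategoryTheory.catToReflQuiver

universe u

open TensorProduct

namespace Groth.Agent.DevProj

/-- Finitely presented over a quotient algebra and then over a finite source of that quotient. -/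
theorem fp_step (R S A B M : Type u) [CommRing R] [CommRing S] [CommRing A] [CommRing B] [Algebra R S] [Algebra R A]
    [Algebra R B] [Algebra S A] [IsScalarTower R S A] [Algebra B A] [IsScalarTower R B A]
    [Algebra.FinitePresentation R S] [Algebra.FinitePresentation S A] [Algebra.FiniteType R B] [Module.Finite B A]
    [AddCommGroup M] [Module S M] [Module A M] [Module B M] [IsScalarTower S A M] [IsScalarTower B A M]
    (hs : Function.Surjective (algebraMap S A)) [Module.FinitePresentation S M] : Module.FinitePresentation B M := by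
  haveI : Module.Finite S A := Module.Finite.of_surjective (Algebra.linearMap S A) hs
  haveI := DevEtale.fp_of_fp_restrictScalars S A M
  haveI : Algebra.FinitePresentation R A := Algebra.FinitePresentation.trans R S A
  haveI : Algebra.FinitePresentation B A := Algebra.FinitePresentation.of_restrict_scalars_finitePresentation R B A
  haveI : Module.FinitePresentation B A := Module.FinitePresentation.of_finite_of_finitePresentation B A
  exact Module.FinitePresentation.trans B M A

theorem flatAt_of_flat_away {R B : Type u} [CommRing R] [CommRing B] [Algebra R B] (M : Type u) [AddCommGroup M]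
    [Module B M] [Module R M] [IsScalarTower R B M] (g : R) (q : Ideal B) [q.IsPrime] (hg : algebraMap R B g ∉ q)
    [Module.Flat (Localization.Away g) (Localization.Away g ⊗[R] M)] : FlatCA.FlatAt R q M := by
  let Rg := Localization.Away g
  let U := Submonoid.powers (algebraMap R B g)
  haveI : Module.Flat R Rg := IsLocalization.flat Rg (Submonoid.powers g)
  haveI : Module.Flat R (Rg ⊗[R] M) := Module.Flat.trans R Rg _
  haveI : IsLocalizedModule (Submonoid.powers g) ((LocalizedModule.mkLinearMap U M).restrictScalars R) :=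
    IsLocalizedModule.restrictScalars_powers g _
  haveI : IsLocalizedModule (Submonoid.powers g) (TensorProduct.mk R Rg M 1) :=
    (isLocalizedModule_iff_isBaseChange (Submonoid.powers g) Rg _).2 (TensorProduct.isBaseChange R M Rg)
  haveI : Module.Flat R (LocalizedModule U M) := Module.Flat.of_linearEquiv
    (IsLocalizedModule.linearEquiv (Submonoid.powers g) ((LocalizedModule.mkLinearMap U M).restrictScalars R)
      (TensorProduct.mk R Rg M 1))
  exact RGLib.flat_localized_of_le U q.primeCompl (Submonoid.powers_le.2 hg)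

section

variable {R S : Type u} [CommRing R] [CommRing S] [Algebra R S] [Algebra.FinitePresentation R S]
  {N : Type u} [AddCommGroup N] [Module S N] [Module.FinitePresentation S N]
  {rr : Ideal R} [rr.IsPrime] (D : FlatCA.CompleteDevissage R S N rr)

theorem fp_M : ∀ i, i < D.n → Module.FinitePresentation (D.B i) (D.M i) := by
  intro i
  induction i with
  | zero =>
    intro h
    haveI := D.smooth 0 h
    haveI := D.finiteBA 0 h
    haveI := D.fpSA
    haveI : Module.FinitePresentation S (D.M 0) := Module.FinitePresentation.of_equiv D.isoN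
    exact fp_step R S (D.A 0) (D.B 0) (D.M 0) D.surjSA
  | succ i ih =>
    intro h
    have hi : i < D.n := by omega
    haveI := ih hi
    haveI := D.smooth i hi
    haveI := D.smooth (i + 1) h
    haveI := D.finiteBA (i + 1) h
    haveI := D.fpBA' i h
    haveI : Module.FinitePresentation (D.B i) (D.M i ⧸ LinearMap.range (D.α i)) :=
      Module.finitePresentation_of_surjective _ (LinearMap.range (D.α i)).mkQ_surjective (by
        rw [Submodule.ker_mkQ, LinearMap.range_eq_map]
        exact Module.Finite.fg_top.map _)
    haveI : Module.FinitePresentation (D.B i) (D.M (i + 1)) := Module.FinitePresentation.of_equiv (D.isoCoker i h)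
    exact fp_step R (D.B i) (D.A (i + 1)) (D.B (i + 1)) (D.M (i + 1)) (D.surjBA' i h)

/-- The quotient map onto the next module. -/
noncomputable def next (i : ℕ) (h : i + 1 < D.n) : D.M i →ₗ[R] D.M (i + 1) :=
  haveI : IsScalarTower R (D.A (i + 1)) (D.M (i + 1)) := IsScalarTower.to₁₃₄ R (D.B (i + 1)) (D.A (i + 1)) (D.M (i + 1))
  haveI : IsScalarTower R (D.B i) (D.M (i + 1)) := IsScalarTower.to₁₂₄ R (D.B i) (D.A (i + 1)) (D.M (i + 1))
  ((D.isoCoker i h).toLinearMap.comp (LinearMap.range (D.α i)).mkQ).restrictScalars R

theorem next_surjective (i : ℕ) (h : i + 1 < D.n) : Function.Surjective (next D i h) :=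
  (D.isoCoker i h).surjective.comp (Submodule.mkQ_surjective _)

theorem exact_next (i : ℕ) (h : i + 1 < D.n) : Function.Exact ((D.α i).restrictScalars R) (next D i h) := fun m => by
  change D.isoCoker i h (Submodule.Quotient.mk m) = 0 ↔ m ∈ Set.range (D.α i)
  rw [LinearEquiv.map_eq_zero_iff, Submodule.Quotient.mk_eq_zero]
  rfl

theorem exists_ukill (hM : Module.Flat R (D.M 0)) : ∀ m, m ≤ D.n →
    ∃ h ∉ rr, (∀ i < m, UKill h ((D.α i).restrictScalars R)) ∧
      (m < D.n → Module.Flat (Localization.Away h) (Localization.Away h ⊗[R] D.M m)) := by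
  intro m
  induction m with
  | zero =>
    intro _
    exact ⟨1, fun h1 => Ideal.IsPrime.ne_top ‹rr.IsPrime› ((Ideal.eq_top_iff_one _).2 h1),
      fun i hi => absurd hi (Nat.not_lt_zero i), fun _ => inferInstance⟩
  | succ m ih =>
    intro hm
    have hlt : m < D.n := by omega
    obtain ⟨g, hg, hker, hfl⟩ := ih (by omega)
    haveI := hfl hlt
    haveI := D.smooth m hlt
    haveI := fp_M D m hlt
    have hgi := SmoothFree.geomIntegral_of_smooth (D.geomIrred m hlt)
    have hover := (RGLib.isPrime_map_and_comap hgi rr).2
    let q := rr.map (algebraMap R (D.B m))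
    haveI : q.LiesOver rr := ⟨hover.symm⟩
    have hgq : algebraMap R (D.B m) g ∉ q := fun h => hg ((SetLike.ext_iff.1 hover g).1 h)
    obtain ⟨⟨f, hf, hUI⟩, -⟩ := (((Groth.Agent.S1205.result hgi rr q (D.M m)).2 (D.r m) (D.α m)
      (D.fibreIso m hlt)).out 0 1).1 (flatAt_of_flat_away (D.M m) g q hgq)
    have hk := ukill_of_univInj f (D.α m) hUI
    refine ⟨g * f, ‹rr.IsPrime›.mul_notMem hg hf, fun i hi => ?_, fun hnext => ?_⟩
    · rcases Nat.lt_succ_iff_lt_or_eq.1 hi with hi | rfl
      · exact (hker i hi).mono (dvd_mul_right g f)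
      · exact hk.mono (dvd_mul_left f g)
    · haveI := flat_away_of_dvd (dvd_mul_right g f) (D.M m)
      exact (hk.mono (dvd_mul_left f g)).flat_baseChange_coker (Localization.Away (g * f))
        (IsLocalization.Away.algebraMap_isUnit (g * f)) (next D m hnext) (exact_next D m hnext)
        (next_surjective D m hnext)

variable (Rh : Type u) [CommRing Rh] [Algebra R Rh]

theorem projective_pi (i : ℕ) (hi : i < D.n) : Module.Projective Rh (Rh ⊗[R] (Fin (D.r i) → D.B i)) := by
  haveI := D.smooth i hi
  haveI : Module.Projective Rh (Rh ⊗[R] D.B i) :=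
    ProjLocalFree.projective_of_geomIrred (DevExist.geomIrred_baseChange (D.geomIrred i hi))
  haveI : Module.Projective Rh (Fin (D.r i) → Rh ⊗[R] D.B i) :=
    Module.Projective.of_equiv (TensorProduct.piScalarRight Rh Rh (Rh ⊗[R] D.B i) (Fin (D.r i)))
  exact Module.Projective.of_equiv (TensorProduct.piRight R Rh Rh fun _ : Fin (D.r i) => D.B i).symm

theorem steps (hinj : ∀ i < D.n, Function.Injective (((D.α i).restrictScalars R).baseChange Rh)) :
    ∀ (k i : ℕ), i + k + 1 = D.n → Module.Projective Rh (Rh ⊗[R] D.M i) ∧
      Nonempty ((Rh ⊗[R] D.M i) ≃ₗ[Rh] ∀ j : Fin (k + 1), Fin (D.r (i + j)) → Rh ⊗[R] D.B (i + j)) := by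
  intro k
  induction k with
  | zero =>
    intro i hi
    have hlt : i < D.n := by omega
    haveI := projective_pi D Rh i hlt
    have hsurj : Function.Surjective ((D.α i).restrictScalars R) := by
      have h := D.cokerLast
      rwa [show D.n - 1 = i by omega] at h
    let e := LinearEquiv.ofBijective (((D.α i).restrictScalars R).baseChange Rh)
      ⟨hinj i hlt, LinearMap.lTensor_surjective Rh hsurj⟩
    refine ⟨Module.Projective.of_equiv e, ⟨?_⟩⟩
    exact e.symm.trans ((TensorProduct.piRight R Rh Rh fun _ : Fin (D.r i) => D.B i).trans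
      (((LinearEquiv.uniqueProd (R := Rh)).symm.trans (LinearEquiv.prodComm Rh _ _)).trans
        (DevFree.piSucc Rh (fun l => Fin (D.r l) → Rh ⊗[R] D.B l) i 0)))
  | succ k ih =>
    intro i hi
    have hlt : i < D.n := by omega
    have hlt' : i + 1 < D.n := by omega
    obtain ⟨hproj, ⟨e'⟩⟩ := ih (i + 1) (by omega)
    haveI := hproj
    haveI := projective_pi D Rh i hlt
    let a := ((D.α i).restrictScalars R).baseChange Rh
    let c := (next D i hlt').baseChange Rh
    have hex : Function.Exact a c := lTensor_exact Rh (exact_next D i hlt') (next_surjective D i hlt')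
    have hc : Function.Surjective c := LinearMap.lTensor_surjective Rh (next_surjective D i hlt')
    obtain ⟨s, hs⟩ := Module.projective_lifting_property c LinearMap.id hc
    let Φ := a.coprod s
    have hs' : ∀ x, c (s x) = x := fun x => LinearMap.congr_fun hs x
    have hΦ : Function.Bijective Φ := by
      constructor
      · rw [injective_iff_map_eq_zero]
        rintro ⟨x, y⟩ h
        have h : a x + s y = 0 := h
        have hy : y = 0 := by
          have h' := congrArg c h
          rwa [map_add, hex.apply_apply_eq_zero, hs', zero_add, map_zero] at h'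
        rw [hy, map_zero, add_zero] at h
        exact Prod.ext (hinj i hlt (h.trans (map_zero _).symm)) hy
      · intro m
        obtain ⟨x, hx⟩ : m - s (c m) ∈ Set.range a := (hex _).1 (by rw [map_sub, hs', sub_self])
        exact ⟨(x, c m), show a x + s (c m) = m by rw [hx, sub_add_cancel]⟩
    let eΦ := LinearEquiv.ofBijective Φ hΦ
    refine ⟨Module.Projective.of_equiv eΦ, ⟨?_⟩⟩
    exact eΦ.symm.trans (((TensorProduct.piRight R Rh Rh fun _ : Fin (D.r i) => D.B i).prodCongr e').trans
      (DevFree.piSucc Rh (fun l => Fin (D.r l) → Rh ⊗[R] D.B l) i (k + 1)))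

theorem exists_proj [Module R N] [IsScalarTower R S N] [Module.Flat R N] :
    ∃ f ∉ rr, Module.Projective (Localization.Away f) (Localization.Away f ⊗[R] N) ∧
      Nonempty ((Localization.Away f ⊗[R] N) ≃ₗ[Localization.Away f]
        ∀ j : Fin D.n, Fin (D.r j) → Localization.Away f ⊗[R] D.B j) := by
  haveI : IsScalarTower R (D.A 0) (D.M 0) := IsScalarTower.to₁₃₄ R (D.B 0) (D.A 0) (D.M 0)
  haveI : IsScalarTower R S (D.M 0) := IsScalarTower.to₁₂₄ R S (D.A 0) (D.M 0)
  let eN : N ≃ₗ[R] D.M 0 := D.isoN.restrictScalars R
  obtain ⟨h, hh, hk, -⟩ := exists_ukill D (Module.Flat.of_linearEquiv eN.symm) D.n le_rfl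
  let Rh := Localization.Away h
  obtain ⟨m, hm⟩ : ∃ m, D.n = m + 1 := ⟨D.n - 1, by have := D.pos; omega⟩
  obtain ⟨hproj, ⟨e⟩⟩ := steps D Rh (fun i hi => (hk i hi).baseChange_injective Rh
    (IsLocalization.Away.algebraMap_isUnit h)) m 0 (by omega)
  haveI := hproj
  let eh : Rh ⊗[R] N ≃ₗ[Rh] Rh ⊗[R] D.M 0 := TensorProduct.AlgebraTensorModule.congr (LinearEquiv.refl Rh Rh) eN
  refine ⟨h, hh, Module.Projective.of_equiv eh.symm, ⟨?_⟩⟩
  exact eh.trans (e.trans ((LinearEquiv.piCongrRight fun j : Fin (m + 1) =>
      LinearEquiv.cast (R := Rh) (M := fun l => Fin (D.r l) → Rh ⊗[R] D.B l) (show 0 + (j : ℕ) = (j : ℕ) by omega)).trans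
    (LinearEquiv.piCongrLeft Rh (fun i : Fin D.n => Fin (D.r i) → Rh ⊗[R] D.B i) (finCongr hm.symm))))

end

end Groth.Agent.DevProj
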