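import Groth.Agent.RGLib.GeomBasis
import Groth.Prelude.Def_FlatCA

/-! Universal injectivity after inverting an element of the base. -/

set_option autoImplicit false
set_option backward.isDefEq.respectTransparency false
attribute [-instance] CategoryTheory.catToReflQuiver

universe u

open TensorProduct

namespace Groth.Agent.DevProj

variable {R : Type u} [CommRing R] {F M C : Type u} [AddCommGroup F] [Module R F] [AddCommGroup M] [Module R M]
  [AddCommGroup C] [Module R C]

/-- Universally, the kernel is killed by powers of `f`. -/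
def UKill (f : R) (β : F →ₗ[R] M) : Prop :=
  ∀ (Q : Type u) [AddCommGroup Q] [Module R Q] (z : F ⊗[R] Q), β.rTensor Q z = 0 → ∃ n : ℕ, f ^ n • z = 0

theorem UKill.mono {f g : R} (h : f ∣ g) {β : F →ₗ[R] M} (H : UKill f β) : UKill g β := fun Q _ _ z hz => by
  obtain ⟨n, hn⟩ := H Q z hz
  obtain ⟨c, rfl⟩ := h
  exact ⟨n, by rw [mul_pow, mul_comm, mul_smul, hn, smul_zero]⟩

theorem ukill_of_univInj {S : Type u} [CommRing S] [Algebra R S] {F M : Type u} [AddCommGroup F] [Module S F]
    [Module R F] [IsScalarTower R S F] [AddCommGroup M] [Module S M] [Module R M] [IsScalarTower R S M]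
    (f : R) (α : F →ₗ[S] M)
    (h : FlatCA.UnivInj R ((LocalizedModule.map (Submonoid.powers (algebraMap R S f)) α).restrictScalars R)) :
    UKill f (α.restrictScalars R) := by
  intro Q _ _ z hz
  let U := Submonoid.powers (algebraMap R S f)
  let lM := TensorProduct.AlgebraTensorModule.rTensor R Q (LocalizedModule.mkLinearMap U F)
  have hz' : TensorProduct.AlgebraTensorModule.rTensor R Q α z = 0 := hz
  have h0 : lM z = 0 := by
    refine (LinearMap.lTensor_inj_iff_rTensor_inj _ _).1 (h Q) ?_
    rw [map_zero]
    have hsq : ((LocalizedModule.map U α).restrictScalars R).rTensor Q (lM z) = TensorProduct.AlgebraTensorModule.rTensor R Q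
        (LocalizedModule.mkLinearMap U M) (TensorProduct.AlgebraTensorModule.rTensor R Q α z) := by
      clear hz hz'
      induction z using TensorProduct.induction_on with
      | zero => simp only [map_zero]
      | add a b ha hb => simp only [map_add, ha, hb]
      | tmul a b =>
        show (LocalizedModule.map U α) (LocalizedModule.mkLinearMap _ _ a) ⊗ₜ[R] b =
          LocalizedModule.mkLinearMap _ _ (α a) ⊗ₜ[R] b
        exact congrArg (· ⊗ₜ[R] b) (LocalizedModule.map_mk _ _ _ _)
    rw [hsq, hz', map_zero]
  obtain ⟨⟨_, n, rfl⟩, hd⟩ := (IsLocalizedModule.eq_zero_iff U lM).1 h0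
  refine ⟨n, ?_⟩
  rw [← algebraMap_smul S (f ^ n) z, map_pow]
  exact hd

variable (Rh : Type u) [CommRing Rh] [Algebra R Rh]

theorem UKill.lTensor_baseChange_injective {f : R} (hf : IsUnit (algebraMap R Rh f)) {β : F →ₗ[R] M} (H : UKill f β)
    (P : Type u) [AddCommGroup P] [Module Rh P] : Function.Injective ((β.baseChange Rh).lTensor P) := by
  letI : Module R P := Module.compHom P (algebraMap R Rh)
  haveI : IsScalarTower R Rh P := IsScalarTower.of_algebraMap_smul fun _ _ => rfl
  let eF := TensorProduct.AlgebraTensorModule.cancelBaseChange R Rh Rh P F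
  let eM := TensorProduct.AlgebraTensorModule.cancelBaseChange R Rh Rh P M
  have he : ∀ z, eM ((β.baseChange Rh).lTensor P z) = β.lTensor P (eF z) := fun z => by
    induction z using TensorProduct.induction_on with
    | zero => simp
    | add x y hx hy => simp only [map_add, hx, hy]
    | tmul a b =>
      induction b using TensorProduct.induction_on with
      | zero => simp
      | add x y hx hy => simp only [TensorProduct.tmul_add, map_add, hx, hy]
      | tmul c x => simp [eF, eM]
  have hβ : Function.Injective (β.lTensor P) := by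
    rw [injective_iff_map_eq_zero]
    intro z hz
    have hz' : β.rTensor P (TensorProduct.comm R P F z) = 0 := by
      rw [show β.rTensor P (TensorProduct.comm R P F z) = TensorProduct.comm R P M (β.lTensor P z) from
        LinearMap.congr_fun (LinearMap.ext_iff.2 fun y => by
          induction y using TensorProduct.induction_on with
          | zero => simp
          | add a b ha hb => simp only [map_add, LinearMap.comp_apply] at ha hb ⊢; rw [ha, hb]
          | tmul a b => rfl : β.rTensor P ∘ₗ (TensorProduct.comm R P F).toLinearMap =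
            (TensorProduct.comm R P M).toLinearMap ∘ₗ β.lTensor P) z, hz, map_zero]
    obtain ⟨n, hn⟩ := H P _ hz'
    rw [← map_smul, LinearEquiv.map_eq_zero_iff] at hn
    have hu : IsUnit (algebraMap R Rh (f ^ n)) := by rw [map_pow]; exact hf.pow n
    rw [← algebraMap_smul Rh (f ^ n) z, hu.smul_eq_zero] at hn
    exact hn
  intro x y hxy
  exact eF.injective (hβ (by rw [← he, ← he, hxy]))

theorem UKill.baseChange_injective {f : R} (hf : IsUnit (algebraMap R Rh f)) {β : F →ₗ[R] M} (H : UKill f β) :
    Function.Injective (β.baseChange Rh) := fun x y hxy => by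
  have h := H.lTensor_baseChange_injective Rh hf Rh (a₁ := 1 ⊗ₜ x) (a₂ := 1 ⊗ₜ y) (by simp [hxy])
  simpa using congrArg (TensorProduct.lid Rh (Rh ⊗[R] F)) h

/-- The cokernel of a universally injective map into a flat module is flat. -/
theorem flat_of_univInj_exact {A : Type u} [CommRing A] {F M C : Type u} [AddCommGroup F] [Module A F]
    [AddCommGroup M] [Module A M] [AddCommGroup C] [Module A C] [Module.Flat A M] (i : F →ₗ[A] M) (g : M →ₗ[A] C)
    (hex : Function.Exact i g) (hg : Function.Surjective g)
    (hi : ∀ (P : Type u) [AddCommGroup P] [Module A P], Function.Injective (i.lTensor P)) : Module.Flat A C := by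
  rw [Module.Flat.iff_rTensor_preserves_injective_linearMap]
  intro P P' _ _ _ _ φ hφ
  rw [injective_iff_map_eq_zero]
  intro x hx
  obtain ⟨y, rfl⟩ := LinearMap.lTensor_surjective P hg x
  have hc : ∀ {N N' : Type u} [AddCommGroup N] [Module A N] [AddCommGroup N'] [Module A N'] (ψ : N →ₗ[A] N')
      (w : P ⊗[A] N), φ.rTensor N' (ψ.lTensor P w) = ψ.lTensor P' (φ.rTensor N w) := fun ψ w => by
    rw [← LinearMap.comp_apply, ← LinearMap.comp_apply, LinearMap.rTensor_comp_lTensor, LinearMap.lTensor_comp_rTensor]
  rw [hc] at hx
  obtain ⟨w, hw⟩ := (lTensor_exact P' hex hg (φ.rTensor M y)).1 hx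
  let q := (LinearMap.range φ).mkQ
  have hqφ : q ∘ₗ φ = 0 := LinearMap.range_mkQ_comp φ
  have hqw : i.lTensor (P' ⧸ LinearMap.range φ) (q.rTensor F w) = 0 := by
    rw [← LinearMap.comp_apply, LinearMap.lTensor_comp_rTensor, ← LinearMap.rTensor_comp_lTensor, LinearMap.comp_apply,
      hw, ← LinearMap.comp_apply, ← LinearMap.rTensor_comp, hqφ, LinearMap.rTensor_zero, LinearMap.zero_apply]
  have hqw' := hi (P' ⧸ LinearMap.range φ) (hqw.trans (map_zero _).symm)
  obtain ⟨w', rfl⟩ := (rTensor_exact F (LinearMap.exact_map_mkQ_range φ) (Submodule.mkQ_surjective _) w).1 hqw'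
  have hy : i.lTensor P w' = y := Module.Flat.rTensor_preserves_injective_linearMap (M := M) φ hφ (by rw [hc, hw])
  rw [← hy, ← LinearMap.comp_apply, ← LinearMap.lTensor_comp, hex.linearMap_comp_eq_zero, LinearMap.lTensor_zero,
    LinearMap.zero_apply]

/-- Flatness of the cokernel after inverting an element universally killing the kernel. -/
theorem UKill.flat_baseChange_coker {f : R} (hf : IsUnit (algebraMap R Rh f)) {β : F →ₗ[R] M} (H : UKill f β)
    [Module.Flat Rh (Rh ⊗[R] M)] (g : M →ₗ[R] C) (hex : Function.Exact β g) (hg : Function.Surjective g) :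
    Module.Flat Rh (Rh ⊗[R] C) :=
  flat_of_univInj_exact (β.baseChange Rh) (g.baseChange Rh) (lTensor_exact Rh hex hg)
    (LinearMap.lTensor_surjective Rh hg) fun P _ _ => H.lTensor_baseChange_injective Rh hf P

theorem flat_away_of_dvd {f g : R} (h : f ∣ g) (M : Type u) [AddCommGroup M] [Module R M]
    [Module.Flat (Localization.Away f) (Localization.Away f ⊗[R] M)] :
    Module.Flat (Localization.Away g) (Localization.Away g ⊗[R] M) := by
  have hu : IsUnit (algebraMap R (Localization.Away g) f) :=
    isUnit_of_dvd_unit (map_dvd _ h) (IsLocalization.Away.algebraMap_isUnit g)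
  letI : Algebra (Localization.Away f) (Localization.Away g) :=
    (IsLocalization.Away.lift (S := Localization.Away f) f hu).toAlgebra
  haveI : IsScalarTower R (Localization.Away f) (Localization.Away g) :=
    IsScalarTower.of_algebraMap_eq fun x => (IsLocalization.Away.lift_eq f hu x).symm
  exact Module.Flat.of_linearEquiv (TensorProduct.AlgebraTensorModule.cancelBaseChange R (Localization.Away f)
    (Localization.Away g) (Localization.Away g) M).symm

end Groth.Agent.DevProj
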